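import Cfsg.Agent.H133.Ore.Inv
import Cfsg.Agent.H65.Ore.Split
import Cfsg.Agent.H511.Ore.WRow
import Cfsg.Agent.H208.DS.Cent
import Cfsg.Agent.H121.Cyc.Mathieu
import Cfsg.Agent.H49.CoStab
import Cfsg.Agent.H904.HSIso
import Cfsg.Agent.H419.Spor.HS
import Cfsg.Agent.H555.TwoSp.CoThreeFacts
import Cfsg.Agent.H769.PB.CoThreeRank5

/-!
# ORE (S2443), T1 for `Co3` (helper133)

* no character of degree 22: an involution commuting with an element of order 11 has `11 ∣ χ(t)`, `χ(t) = 22 - 2 m`,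
  `m` even;
* no character of degree 45: it has no fixed vector of `HS` (rank 5 action, `1 + 23 + 275 + 2024 + 8855`), and the small
  degrees of `HS` are among 1, 21, 22, 28;
* `t1` : `T1 Spor.Co3 204`.
-/

set_option autoImplicit false

open Cfsg Subgroup

namespace Cfsg.Agent.H133.Ore.Co3

open Cfsg.Agent.H653.Sieve Cfsg.Agent.H651.Two Cfsg.Agent.Characters.Core
open Cfsg.Agent.H511.Ore (MinDeg NoDeg DegOff DegOn pNE pX tstOn degOn_of_check s4 tst isC_of_data degOff_of_check T1)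
open Cfsg.Agent.H777.Ore (IsC)

universe u

theorem simple : IsSimpleGroup Spor.Co3 := H49.CoStab.simple_co3

theorem card : Nat.card Spor.Co3 = 495766656000 := H49.CoStab.card_co3

theorem fin : Finite Spor.Co3 := H49.CoStab.finite_co3

theorem not_comm : ¬ IsMulCommutative Spor.Co3 := by
  have := simple
  have := fin
  exact not_comm_of (by rw [card]; norm_num)

theorem minDeg21 : MinDeg Spor.Co3 21 := by
  have := simple
  have := fin
  exact minDeg_of_rep not_comm (H121.Cyc.co3 ⟨MulEquiv.refl _⟩)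

/-! ### The centralizers -/

theorem cent_zpowers {G : Type*} [Group G] (x : G) :
    centralizer ((zpowers x : Subgroup G) : Set G) = centralizer ({x} : Set G) := by
  rw [zpowers_eq_closure, centralizer_closure]

theorem cent23 {x : Spor.Co3} (hx : orderOf x = 23) : Nat.card (centralizer ({x} : Set Spor.Co3)) = 23 := by
  have h := Cfsg.Agent.H555.TwoSp.c23 (T := Spor.Co3) ⟨MulEquiv.refl _⟩ (zpowers x) (by rw [Nat.card_zpowers, hx])
  rwa [cent_zpowers] at h

theorem cent11 {x : Spor.Co3} (hx : orderOf x = 11) : Nat.card (centralizer ({x} : Set Spor.Co3)) = 22 := by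
  have h := Cfsg.Agent.H555.TwoSp.c11 (T := Spor.Co3) ⟨MulEquiv.refl _⟩ (zpowers x) (by rw [Nat.card_zpowers, hx])
  rwa [cent_zpowers] at h

def c23 : CD := ⟨23, 1, 11, 2, [(0, 0), (1, 2), (11, -1), (12, 1), (22, -2)], 2, true⟩

def c11 : CD := ⟨11, 2, 5, 2, [(0, 0), (1, 2), (5, -1), (6, 1), (10, -2)], 0, false⟩

def cd : List CD := [c23, c11]

theorem ok : (cd.all (CD.ok 495766656000)) = true := by decide +kernel

def facs : List (ℕ × ℕ) := [(23, 1), (11, 1), (7, 1), (5, 3), (3, 7), (2, 10)]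

theorem facs_prime : (facs.all fun pa => Nat.Prime pa.1) = true := by norm_num [facs]

theorem facs_prod : facProd facs = 495766656000 := by decide +kernel

theorem has : ∀ d ∈ cd, d.Has Spor.Co3 := by
  have := fin
  intro d hd
  simp only [cd, List.mem_cons, List.not_mem_nil, or_false] at hd
  rcases hd with rfl | rfl
  · obtain ⟨x, hx⟩ := exists_order card (p := 23) (by norm_num) (by norm_num)
    exact has_of_eq (d := c23) (by norm_num [c23]) hx (cent23 hx)
  · obtain ⟨x, hx⟩ := exists_order card (p := 11) (by norm_num) (by norm_num)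
    exact has_of_eq (d := c11) (by norm_num [c11]) hx (cent11 hx)

/-! ### Degree 22 -/

/-- an involution whose class has length prime to 11 -/
theorem exists_w : ∃ w : Spor.Co3, orderOf w = 2 ∧ ¬ 11 ∣ (centralizer ({w} : Set Spor.Co3)).index := by
  have := fin
  obtain ⟨x, hx⟩ := exists_order card (p := 11) (by norm_num) (by norm_num)
  have h2 : Fact (Nat.Prime 2) := ⟨Nat.prime_two⟩
  obtain ⟨w, hw⟩ := exists_prime_orderOf_dvd_card' (G := centralizer ({x} : Set Spor.Co3)) 2 (by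
    rw [cent11 hx]; norm_num)
  have hw' : orderOf (w : Spor.Co3) = 2 := by rw [Subgroup.orderOf_coe, hw]
  refine ⟨w, hw', fun h => ?_⟩
  have h3 : x ∈ centralizer ({(w : Spor.Co3)} : Set Spor.Co3) := by
    rw [mem_centralizer_singleton_iff]
    exact (mem_centralizer_singleton_iff.1 w.2).symm
  have h4 : 11 ∣ Nat.card (centralizer ({(w : Spor.Co3)} : Set Spor.Co3)) := by
    have h5 := orderOf_dvd_natCard (⟨x, h3⟩ : centralizer ({(w : Spor.Co3)} : Set Spor.Co3))
    rwa [Subgroup.orderOf_mk, hx] at h5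
  have h6 := mul_dvd_mul h4 h
  rw [card_mul_index, card] at h6
  norm_num at h6

theorem no22 (χ : IrrCharacter Spor.Co3) : charDegree (χ : Spor.Co3 → ℂ) ≠ 22 := by
  intro hd
  have := simple
  have := fin
  have h1 : (χ : Spor.Co3 → ℂ) ≠ 1 := by
    intro h
    rw [h] at hd
    have : charDegree (1 : Spor.Co3 → ℂ) = 1 := by unfold charDegree; simp
    omega
  obtain ⟨w, hw, hi⟩ := exists_w
  obtain ⟨m, hm0, hm, hme, -, hdvd⟩ := invol_value not_comm χ h1 hw
  rw [hd] at hm hdvd
  have h11 : (11 : ℤ) ∣ (centralizer ({w} : Set Spor.Co3)).index * ((22 : ℕ) - 2 * m : ℤ) :=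
    dvd_trans (by norm_num) hdvd
  have hp : Prime (11 : ℤ) := Nat.prime_iff_prime_int.1 (by norm_num)
  rcases hp.dvd_or_dvd h11 with h | h
  · exact hi (by exact_mod_cast h)
  · obtain ⟨k, hk⟩ := hme
    push_cast at h
    omega

/-! ### The Higman-Sims group -/

namespace HS

def c7 : CD := ⟨7, 1, 6, 1, [(0, 0), (1, 1), (6, -1)], 0, false⟩

def c11 : CD := ⟨11, 1, 5, 2, [(0, 0), (1, 2), (5, -1), (6, 1), (10, -2)], 2, true⟩

def cd : List CD := [c7, c11]

theorem ok : (cd.all (CD.ok 44352000)) = true := by decide +kernel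

def facs : List (ℕ × ℕ) := [(11, 1), (7, 1), (5, 3), (3, 2), (2, 9)]

theorem facs_prime : (facs.all fun pa => Nat.Prime pa.1) = true := by norm_num [facs]

theorem facs_prod : facProd facs = 44352000 := by decide +kernel

theorem card : Nat.card Spor.HS = 44352000 := H419.Spor.HS.facts.2

theorem simple : IsSimpleGroup Spor.HS := H419.Spor.HS.facts.1

theorem fin : Finite Spor.HS := Nat.finite_of_card_ne_zero (by rw [card]; norm_num)

theorem not_comm : ¬ IsMulCommutative Spor.HS := by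
  have := simple
  have := fin
  exact not_comm_of (by rw [card]; norm_num)

theorem minDeg : MinDeg Spor.HS 21 := by
  have := simple
  have := fin
  exact minDeg_of_rep not_comm (H121.Cyc.hs ⟨MulEquiv.refl _⟩)

theorem has : ∀ d ∈ cd, d.Has Spor.HS := by
  have := fin
  intro d hd
  simp only [cd, List.mem_cons, List.not_mem_nil, or_false] at hd
  rcases hd with rfl | rfl
  · obtain ⟨x, hx⟩ := exists_order card (p := 7) (by norm_num) (by norm_num)
    exact has_of_eq (d := c7) (by norm_num [c7]) hx (H904.HSIso.card_seven ⟨MulEquiv.refl _⟩ hx)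
  · obtain ⟨x, hx⟩ := exists_order card (p := 11) (by norm_num) (by norm_num)
    exact has_of_eq (d := c11) (by norm_num [c11]) hx (H904.HSIso.card_eleven ⟨MulEquiv.refl _⟩ hx)

/-- not 21, 22, 28 -/
def P (d : ℕ) : Bool := !(Nat.beq d 21 || Nat.beq d 22 || Nat.beq d 28)

theorem chk : allDiv (46 * 46) (tstOn P 21 [] cd) facs 1 = true := by decide +kernel

theorem deg (ψ : IrrCharacter Spor.HS) (h1 : (ψ : Spor.HS → ℂ) ≠ 1) : charDegree (ψ : Spor.HS → ℂ) = 21 ∨
    charDegree (ψ : Spor.HS → ℂ) = 22 ∨ charDegree (ψ : Spor.HS → ℂ) = 28 ∨ 46 ≤ charDegree (ψ : Spor.HS → ℂ) := by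
  have := simple
  have := fin
  by_cases h : P (charDegree (ψ : Spor.HS → ℂ)) = true
  · exact Or.inr (Or.inr (Or.inr (degOn_of_check not_comm _ card facs facs_prime facs_prod cd ok has minDeg noDeg_nil
      chk ψ h1 h)))
  · simp only [P, Bool.not_eq_true', Bool.not_eq_false, Bool.or_eq_true] at h
    rcases h with (h | h) | h
    · exact Or.inl (Nat.eq_of_beq_eq_true h)
    · exact Or.inr (Or.inl (Nat.eq_of_beq_eq_true h))
    · exact Or.inr (Or.inr (Or.inl (Nat.eq_of_beq_eq_true h)))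

end HS

/-! ### The 11178 vectors -/

namespace Perm

open MulAction Cfsg.Agent.H33 Cfsg.Agent.H672.SporIM
open Cfsg.Agent.H419.Spor.Co3 (inc inc_injective inc_fix)
open Cfsg.Agent.SporadicStructure.Co0Base (co0_dotInt)
open Cfsg.Agent.H593.IMFrame (Sub perm frame)
open Cfsg.Agent.H713.Spor.RankThree (pc inner_pc_one inner_ne)
open Cfsg.Agent.H769.PB.CoThreeRank5
open scoped ComplexConjugate

/-- **The constituents of the permutation character.** -/
theorem const_deg [Fintype Spor.Co3] (η : IrrCharacter Spor.Co3) (hη : classInner (perm Spor.Co3 X) (η : Spor.Co3 → ℂ) ≠ 0) :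
    charDegree (η : Spor.Co3 → ℂ) = 1 ∨ charDegree (η : Spor.Co3 → ℂ) = 23 ∨ charDegree (η : Spor.Co3 → ℂ) = 275 ∨
      charDegree (η : Spor.Co3 → ℂ) = 2024 ∨ charDegree (η : Spor.Co3 → ℂ) = 8855 := by
  have hfinG := fin
  classical
  have := Fintype.ofFinite X
  obtain ⟨x, b, hb⟩ := exists_sub
  have hne : Nonempty X := ⟨x⟩
  obtain ⟨χ, D, hinj, hperm, hsum, hprod, hsq⟩ := frame hb
  have hperm' : perm Spor.Co3 X = ∑ i, (χ i : Spor.Co3 → ℂ) := by
    funext g
    rw [hperm, Finset.sum_apply]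
  have hcon : ∀ η : Spor.Co3 → ℂ, IsIrrCharacter Spor.Co3 η → classInner (perm Spor.Co3 X) η ≠ 0 →
      ∃ i, (χ i : Spor.Co3 → ℂ) = η := by
    intro η hη h0
    by_contra hcon
    push Not at hcon
    apply h0
    rw [hperm', classInner_sum_left, Finset.sum_eq_zero]
    intro i _
    exact classInner_irr_ne (χ i).2 hη (hcon i)
  have hone : classInner (perm Spor.Co3 X) (1 : Spor.Co3 → ℂ) = 1 := inner_pc_one (G := Spor.Co3) X
  obtain ⟨i, hi⟩ := hcon 1 isIrr_one (by rw [hone]; norm_num)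
  have hone' : charDegree (1 : Spor.Co3 → ℂ) = 1 := by
    unfold charDegree
    simp
  have hi1 : charDegree (χ i : Spor.Co3 → ℂ) = 1 := by rw [hi, hone']
  -- the degree 23
  obtain ⟨μ, hμ⟩ := Cfsg.Agent.H843.IMC.Co3A.exists_mu
  have hμ23 : charDegree (μ : Spor.Co3 → ℂ) = 23 := by
    have h4 := hμ 1
    have h6 : Cfsg.Agent.H419.LeechIrr.lchi inc 1 = 24 := by
      rw [Cfsg.Agent.H419.LeechIrr.lchi, map_one, Cfsg.Agent.SigZeroCo2.Lin.tr8_one]
      norm_num
    rw [h6, Cfsg.Agent.Blocks.Basic.irr_one_eq_charDegree μ.2] at h4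
    have : (24 : ℂ) = ((1 + charDegree (μ : Spor.Co3 → ℂ) : ℕ) : ℂ) := by rw [h4]; push_cast; ring
    have h9 : 24 = 1 + charDegree (μ : Spor.Co3 → ℂ) := by exact_mod_cast this
    omega
  have hμ1 : (μ : Spor.Co3 → ℂ) ≠ 1 := by
    intro h
    rw [h, hone'] at hμ23
    omega
  have hXμ : classInner (perm Spor.Co3 X) (μ : Spor.Co3 → ℂ) ≠ 0 := by
    refine inner_ne inc μ hμ1 (d := 1) (fun g => by rw [hμ g]; norm_num) X (fun x => x.1) (fun _ _ => rfl) ?_
    intro z
    have h1 : 1 < Nat.card X := by rw [card_X]; norm_num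
    have hnt : Nontrivial X := Finite.one_lt_card_iff_nontrivial.1 h1
    obtain ⟨w, hw⟩ := exists_ne z
    obtain ⟨g, hg⟩ := exists_smul_eq Spor.Co3 z w
    refine ⟨g, fun hcon => hw ?_⟩
    rw [← hg]
    exact Subtype.ext hcon
  obtain ⟨j, hj⟩ := hcon μ μ.2 hXμ
  have hj1 : charDegree (χ j : Spor.Co3 → ℂ) = 23 := by rw [hj, hμ23]
  -- the degree 275
  obtain ⟨θ, hθ, hθd, -⟩ := exists_275
  have hXθ : classInner (perm Spor.Co3 X) (θ : Spor.Co3 → ℂ) ≠ 0 := by
    intro h0
    have h1 : (θ : Spor.Co3 → ℂ) + 1 = pc Spor.Co3 Cfsg.Agent.H843.IMC.Co3A.Y := by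
      funext g
      rw [Pi.add_apply, hθ, Pi.one_apply, sub_add_cancel]
      rfl
    have h2 : classInner (perm Spor.Co3 X) (pc Spor.Co3 Cfsg.Agent.H843.IMC.Co3A.Y) = 1 := by
      rw [← h1, classInner_add_right, h0, hone, zero_add]
    have h3 : classInner (perm Spor.Co3 X) (pc Spor.Co3 Cfsg.Agent.H843.IMC.Co3A.Y) =
        (Nat.card (Quotient (orbitRel Spor.Co3 (X × Cfsg.Agent.H843.IMC.Co3A.Y))) : ℂ) := by
      have h4 := classInner_def (pc Spor.Co3 X) (pc Spor.Co3 Cfsg.Agent.H843.IMC.Co3A.Y)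
      change classInner (perm Spor.Co3 X) (pc Spor.Co3 Cfsg.Agent.H843.IMC.Co3A.Y) = _ at h4
      rw [h4, ← Cfsg.Agent.S0157.avg_fixedBy (G := Spor.Co3) (X × Cfsg.Agent.H843.IMC.Co3A.Y)]
      congr 1
      refine Finset.sum_congr rfl fun g _ => ?_
      rw [Cfsg.Agent.S0157.card_fixedBy_prod, pc, pc, Complex.conj_natCast]
      push_cast
      rfl
    rw [h2] at h3
    have h5 : Nat.card (Quotient (orbitRel Spor.Co3 (X × Cfsg.Agent.H843.IMC.Co3A.Y))) = 1 := by exact_mod_cast h3.symm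
    have h6 : Subsingleton (Quotient (orbitRel Spor.Co3 (X × Cfsg.Agent.H843.IMC.Co3A.Y))) :=
      (Nat.card_eq_one_iff_unique.1 h5).1
    have h7 : IsPretransitive Spor.Co3 (X × Cfsg.Agent.H843.IMC.Co3A.Y) :=
      (pretransitive_iff_subsingleton_quotient Spor.Co3 _).2 h6
    have hY : Nonempty Cfsg.Agent.H843.IMC.Co3A.Y := by
      refine (Nat.card_pos_iff.1 ?_).1
      rw [Cfsg.Agent.H843.IMC.Co3A.card_Y]
      norm_num
    obtain ⟨y⟩ := hY
    have h8 := (stabilizer Spor.Co3 (x, y)).card_mul_index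
    rw [index_stabilizer_of_transitive, Nat.card_prod, card_X, Cfsg.Agent.H843.IMC.Co3A.card_Y,
      Cfsg.Agent.H843.IMC.Co3A.card_co3] at h8
    omega
  obtain ⟨k, hk⟩ := hcon θ θ.2 hXθ
  have hk1 : charDegree (χ k : Spor.Co3 → ℂ) = 275 := by rw [hk, hθd]
  obtain ⟨c, d, hc, hd, hcd, hall⟩ := dioph (fun i => charDegree (χ i : Spor.Co3 → ℂ)) D
    (fun i => by
      rw [← Cfsg.Agent.H843.IMC.Co3A.card_co3]
      exact Cfsg.Agent.Blocks.Knorr.charDegree_dvd (χ i).2) hi1 hj1 hk1 (by rw [hsum, card_X]) (by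
      rw [hprod, card_X]
      decide +kernel) hsq
  obtain ⟨u, hu⟩ := hcon η η.2 hη
  change charDegree (χ c : Spor.Co3 → ℂ) = 2024 at hc
  change charDegree (χ d : Spor.Co3 → ℂ) = 8855 at hd
  rw [← hu]
  rcases hall u with rfl | rfl | rfl | rfl | rfl
  · exact Or.inl hi1
  · exact Or.inr (Or.inl hj1)
  · exact Or.inr (Or.inr (Or.inl hk1))
  · exact Or.inr (Or.inr (Or.inr (Or.inl hc)))
  · exact Or.inr (Or.inr (Or.inr (Or.inr hd)))

theorem mem_U' : Spor.leechU' ∈ {x : leechLattice | sqNorm (x : GolayPt → ℤ) = 32 ∧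
    dotInt ((Spor.leechV : leechLattice) : GolayPt → ℤ) (x : GolayPt → ℤ) = -16} := by
  constructor
  · show sqNorm Spor.vecU' = 32
    decide +kernel
  · show dotInt Spor.vecV Spor.vecU' = -16
    decide +kernel

/-- the vector -/
def x0 : X := ⟨Spor.leechU', mem_U'⟩

/-- the inclusion of `HS` -/
def inH : Spor.HS →* Spor.Co3 where
  toFun g := ⟨g, g.2.1⟩
  map_one' := rfl
  map_mul' _ _ := rfl

/-- `HS` is the stabiliser -/
noncomputable def toStab : Spor.HS ≃ stabilizer Spor.Co3 x0 where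
  toFun g := ⟨inH g, Subtype.ext g.2.2⟩
  invFun g := ⟨((g : Spor.Co3) : Equiv.Perm leechLattice), ⟨(g : Spor.Co3).2, congrArg Subtype.val g.2⟩⟩
  left_inv _ := rfl
  right_inv _ := rfl

/-- no fixed vector of `HS` -/
theorem sum_HS [Fintype Spor.HS] (χ : IrrCharacter Spor.Co3) (h1 : charDegree (χ : Spor.Co3 → ℂ) ≠ 1)
    (h2 : charDegree (χ : Spor.Co3 → ℂ) ≠ 23) (h3 : charDegree (χ : Spor.Co3 → ℂ) ≠ 275)
    (h4 : charDegree (χ : Spor.Co3 → ℂ) ≠ 2024) (h5 : charDegree (χ : Spor.Co3 → ℂ) ≠ 8855) :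
    ∑ g : Spor.HS, (χ : Spor.Co3 → ℂ) (inH g) = 0 := by
  classical
  have := fin
  have := Fintype.ofFinite Spor.Co3
  have := Fintype.ofFinite (stabilizer Spor.Co3 x0)
  have h6 : classInner (perm Spor.Co3 X) (χ : Spor.Co3 → ℂ) = 0 := by
    by_contra h
    rcases const_deg χ h with h | h | h | h | h
    · exact h1 h
    · exact h2 h
    · exact h3 h
    · exact h4 h
    · exact h5 h
  have h7 : classInner (χ : Spor.Co3 → ℂ) (perm Spor.Co3 X) = 0 := by
    rw [← classInner_conj_symm, h6, map_zero]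
  rw [classInner_def] at h7
  have h8 : ∑ g : Spor.Co3, (Nat.card (fixedBy X g) : ℂ) * (χ : Spor.Co3 → ℂ) g = 0 := by
    have h9 := (mul_eq_zero.1 h7).resolve_left (inv_ne_zero card_ne_zero_complex)
    rw [← h9]
    refine Finset.sum_congr rfl fun g _ => ?_
    rw [perm, Complex.conj_natCast, mul_comm]
  rw [sum_stab x0 (isIrr_isClassFunction χ.2)] at h8
  have h9 := (mul_eq_zero.1 h8).resolve_left (by rw [card_X]; norm_num)
  rw [← h9]
  exact Fintype.sum_equiv toStab _ _ fun g => rfl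

end Perm

/-! ### Degree 45 -/

theorem no45 (χ : IrrCharacter Spor.Co3) : charDegree (χ : Spor.Co3 → ℂ) ≠ 45 := by
  classical
  intro hd
  have := fin
  have := HS.fin
  have := Fintype.ofFinite Spor.HS
  have : Finite (IrrCharacter Spor.HS) := finite_irr
  have := Fintype.ofFinite (IrrCharacter Spor.HS)
  have hs := Perm.sum_HS χ (by omega) (by omega) (by omega) (by omega) (by omega)
  have hθ : IsCharacter Spor.HS (fun g => (χ : Spor.Co3 → ℂ) (Perm.inH g)) := isCharacter_comp Perm.inH (isIrr_isCharacter χ.2)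
  obtain ⟨m, hm⟩ := exists_nat_comb hθ
  have hdeg := sum_degree_eq hθ (n := 45) (by
    show (χ : Spor.Co3 → ℂ) (Perm.inH 1) = _
    rw [map_one, Blocks.Knorr.charDegree_eq χ.2, hd]) m hm
  -- the trivial constituent
  let ψ₁ : IrrCharacter Spor.HS := ⟨1, isIrr_one⟩
  have h0 : m ψ₁ = 0 := by
    have h1 : classInner (fun g => (χ : Spor.Co3 → ℂ) (Perm.inH g)) (1 : Spor.HS → ℂ) = (m ψ₁ : ℂ) := by
      rw [hm]
      exact classInner_sum_nsmul_irr m ψ₁
    have h2 : classInner (fun g => (χ : Spor.Co3 → ℂ) (Perm.inH g)) (1 : Spor.HS → ℂ) = 0 := by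
      rw [classInner_def]
      simp only [Pi.one_apply, map_one, mul_one]
      rw [hs, mul_zero]
    rw [h2] at h1
    exact_mod_cast h1.symm
  have hterm : ∀ ψ : IrrCharacter Spor.HS, m ψ * charDegree (ψ : Spor.HS → ℂ) =
      21 * (if charDegree (ψ : Spor.HS → ℂ) = 21 then m ψ else 0) +
      22 * (if charDegree (ψ : Spor.HS → ℂ) = 22 then m ψ else 0) +
      28 * (if charDegree (ψ : Spor.HS → ℂ) = 28 then m ψ else 0) := by
    intro ψ
    by_cases h1 : (ψ : Spor.HS → ℂ) = 1
    · have : ψ = ψ₁ := Subtype.ext h1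
      rw [this, h0]
      simp
    · rcases HS.deg ψ h1 with h | h | h | h
      · rw [h]; simp; ring
      · rw [h]; simp; ring
      · rw [h]; simp; ring
      · have h2 : m ψ * charDegree (ψ : Spor.HS → ℂ) ≤ 45 := by
          rw [← hdeg]
          exact Finset.single_le_sum (f := fun ψ : IrrCharacter Spor.HS => m ψ * charDegree (ψ : Spor.HS → ℂ))
            (fun _ _ => Nat.zero_le _) (Finset.mem_univ ψ)
        have h3 : m ψ = 0 := by
          by_contra h4
          have h5 : 1 * 46 ≤ m ψ * charDegree (ψ : Spor.HS → ℂ) := Nat.mul_le_mul (Nat.one_le_iff_ne_zero.2 h4) h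
          omega
        rw [h3]
        simp
  rw [Finset.sum_congr rfl fun ψ _ => hterm ψ, Finset.sum_add_distrib, Finset.sum_add_distrib, ← Finset.mul_sum,
    ← Finset.mul_sum, ← Finset.mul_sum] at hdeg
  omega

/-! ### T1 -/

theorem noDeg : NoDeg Spor.Co3 [22, 45] := by
  intro χ h
  simp only [List.mem_cons, List.not_mem_nil, or_false] at h
  exact h.elim (no22 χ) (no45 χ)

theorem chkNE : allDiv (160 * 160) (tstOn (pNE 23) 21 [22, 45] cd) facs 1 = true := by decide +kernel

theorem chkX : allDiv (126 * 126) (tstOn (pX 23 11) 21 [22, 45] cd) facs 1 = true := by decide +kernel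

/-- **the degrees `± 1` mod 23** -/
theorem degNE : DegOn Spor.Co3 (pNE 23) 160 := by
  have := simple
  have := fin
  exact degOn_of_check not_comm _ card facs facs_prime facs_prod cd ok has minDeg21 noDeg chkNE

/-- **the degrees `± 11` mod 23** -/
theorem degX : DegOn Spor.Co3 (pX 23 11) 126 := by
  have := simple
  have := fin
  exact degOn_of_check not_comm _ card facs facs_prime facs_prod cd ok has minDeg21 noDeg chkX

/-- **T1 for `Co3`.** -/
theorem t1 : T1 Spor.Co3 204 := by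
  have := simple
  have := fin
  intro g hg
  obtain ⟨x, hx⟩ := exists_order card (p := 23) (by norm_num) (by norm_num)
  refine H65.Ore.comm_all not_comm (p := 23) (by norm_num) card hx (cent23 hx) 11 2 94 (by decide +kernel)
    (DN := 160) (DX := 126) (c := 204) (fun χ h1 h2 => degNE χ h1 ?_) (fun χ h1 h2 => degX χ h1 ?_) (by norm_num)
    (by norm_num) hg
  · rcases h2 with h2 | h2
    · simp [pNE, h2]
    · simp [pNE, h2]
  · rcases h2 with h2 | h2
    · simp [pX, h2]
    · simp [pX, h2]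

end Cfsg.Agent.H133.Ore.Co3
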