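import Cfsg.Agent.H133.Ore.DegCo3
import Cfsg.Agent.H713.Two.Sing

/-!
# ORE (S2443), T1 for `Co3`, second part: no character of degree 126 (helper133)

A character of degree 126 is exceptional for 23, hence equal to its complex conjugate at the elements of order 11; but it is
exceptional for 11. `t1'` : `T1 Spor.Co3 703`.
-/

set_option autoImplicit false

open Cfsg Subgroup

namespace Cfsg.Agent.H133.Ore.Co3

open Cfsg.Agent.H653.Sieve Cfsg.Agent.H651.Two Cfsg.Agent.Characters.Core
open Cfsg.Agent.H511.Ore (MinDeg NoDeg DegOff DegOn pNE pX tstOn degOn_of_check s4 tst isC_of_data degOff_of_check T1)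
open Cfsg.Agent.H777.Ore (IsC)
open scoped ComplexConjugate

universe u

/-! ### Degree 126 -/

section Eleven

variable {G : Type u} [Group G] [Finite G] [IsSimpleGroup G]

/-- the fusion of a group of order `p` with `|N : C| = e`, `e` prime -/
theorem exists_pow {p : ℕ} [hp : Fact p.Prime] {e : ℕ} (he : e.Prime) {P : Subgroup G} (hP : Nat.card P = p) {y : G}
    (hy : P = zpowers y) (hrel : (centralizer (P : Set G)).relIndex (normalizer (P : Set G)) = e) :
    ∃ (n : G) (u : ℕ), u < p ∧ u % p ≠ 1 ∧ u ^ e % p = 1 % p ∧ n * y * n⁻¹ = y ^ u := by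
  have hcard : Nat.card (P.normalizerMonoidHom).range = e := by
    rw [← hrel, Subgroup.relIndex, ← Subgroup.normalizerMonoidHom_ker, Subgroup.index_ker]
  have : Fact e.Prime := ⟨he⟩
  obtain ⟨φ', hφ0⟩ := exists_prime_orderOf_dvd_card' (G := (P.normalizerMonoidHom).range) e (by rw [hcard])
  obtain ⟨n, hn⟩ := φ'.2
  have hφ' : orderOf (φ' : MulAut P) = e := by rw [Subgroup.orderOf_coe, hφ0]
  generalize (φ' : MulAut P) = φ at hn hφ'
  have hyP : y ∈ P := by rw [hy]; exact mem_zpowers y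
  have hyo : orderOf y = p := by rw [← Nat.card_zpowers, ← hy, hP]
  have hval : ∀ z : P, ((φ z : P) : G) = (n : G) * z * (n : G)⁻¹ := fun z => by rw [← hn]; rfl
  obtain ⟨u, hu, hu'⟩ : ∃ u < p, y ^ u = (n : G) * y * (n : G)⁻¹ := by
    have h1 : (n : G) * y * (n : G)⁻¹ ∈ zpowers y := by
      rw [← hy, ← hval ⟨y, hyP⟩]
      exact (φ ⟨y, hyP⟩).2
    rw [← mem_powers_iff_mem_zpowers] at h1
    obtain ⟨k, hk⟩ := h1
    refine ⟨k % p, Nat.mod_lt _ hp.out.pos, ?_⟩
    rw [← hyo, pow_mod_orderOf]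
    exact hk
  refine ⟨n, u, hu, ?_, ?_, hu'.symm⟩
  · intro h1
    have h2 : u = 1 := by rwa [Nat.mod_eq_of_lt hu] at h1
    rw [h2, pow_one] at hu'
    have h3 : φ = 1 := by
      ext z
      rw [hval]
      have h4 : (z : G) ∈ zpowers y := by rw [← hy]; exact z.2
      obtain ⟨k, hk⟩ := h4
      rw [MulAut.one_apply, ← hk]
      show (n : G) * y ^ k * (n : G)⁻¹ = y ^ k
      rw [← conj_zpow, ← hu']
    rw [h3, orderOf_one] at hφ'
    exact he.one_lt.ne hφ'
  · have h1 : ∀ k : ℕ, (((φ ^ k) ⟨y, hyP⟩ : P) : G) = y ^ (u ^ k) := by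
      intro k
      induction k with
      | zero => simp
      | succ k ih =>
        rw [pow_succ', MulAut.mul_apply, hval, ih, ← conj_pow, ← hu', ← pow_mul, pow_succ']
    have h2 := h1 e
    rw [← hφ', pow_orderOf_eq_one, MulAut.one_apply, hφ'] at h2
    have h3 : y ^ 1 = y ^ (u ^ e) := by rw [pow_one]; exact h2
    rw [pow_inj_mod, hyo] at h3
    exact h3.symm

end Eleven

theorem hdec' : ((List.range 11).all fun u => u % 11 == 1 || u ^ 5 % 11 != 1 || (List.range 11).all fun k => k == 0 ||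
    (List.range 5).any fun a => u ^ a % 11 == k || (u ^ a * 10) % 11 == k) = true := by decide

theorem hdec {u : ℕ} (h1 : u < 11) (h2 : u % 11 ≠ 1) (h3 : u ^ 5 % 11 = 1 % 11) {k : ℕ} (h4 : k < 11) (h5 : k ≠ 0) :
    ∃ a : ℕ, u ^ a % 11 = k ∨ (u ^ a * 10) % 11 = k := by
  have h := List.all_eq_true.1 hdec' u (List.mem_range.2 h1)
  simp only [Bool.or_eq_true, beq_iff_eq, bne_iff_ne, ne_eq] at h
  rcases h with (h | h) | h
  · exact absurd h h2
  · exact absurd h3 h
  · have h6 := List.all_eq_true.1 h k (List.mem_range.2 h4)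
    simp only [Bool.or_eq_true, beq_iff_eq] at h6
    rcases h6 with h6 | h6
    · exact absurd h6 h5
    · obtain ⟨a, -, ha⟩ := List.any_eq_true.1 h6
      rw [Bool.or_eq_true, beq_iff_eq, beq_iff_eq] at ha
      exact ⟨a, ha⟩

/-- a character which is real at the elements of order 11 has degree not `± 5` mod 11 -/
theorem not_real {G : Type u} [Group G] [Finite G] [IsSimpleGroup G] (hG : ¬ IsMulCommutative G) {N : ℕ}
    (hN : Nat.card G = N) (hc : c11.Has G) (hok : c11.ok N = true) (hfac : (Nat.card G).factorization 11 = 1)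
    (χ : IrrCharacter G)
    (hreal : ∀ y : G, orderOf y = 11 → conj ((χ : G → ℂ) y) = (χ : G → ℂ) y) :
    charDegree (χ : G → ℂ) % 11 ≠ 5 := by
  classical
  intro hd
  have : Finite (IrrCharacter G) := finite_irr
  have := Fintype.ofFinite (IrrCharacter G)
  obtain ⟨-, x, hx, hcx⟩ := hc
  have hx : orderOf x = 11 := hx
  have : Fact (Nat.Prime 11) := ⟨by norm_num⟩
  obtain ⟨P, W, hP, he, hcol, hW⟩ := exists_col hG hN hx hcx c11.e c11.t c11.wl c11.c c11.b hok
  -- the value of the column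
  have hmem := hW.mem χ
  have hWv : W χ = -1 := by
    have h1 : (charDegree (χ : G → ℂ) % 11, W χ) ∈ c11.wl := hmem
    rw [hd] at h1
    simp only [c11, List.mem_cons, Prod.mk.injEq, List.not_mem_nil, or_false] at h1
    omega
  -- the fusion
  obtain ⟨P', hP1, hP2, -, -, hrel, -⟩ := H511.Ore.exists_sylow hG hN hx hcx c11.e c11.t c11.wl c11.c c11.b hok
  obtain ⟨n, u, hu, hu1, hu5, hn⟩ := exists_pow (e := 5) (by norm_num) (P := (P' : Subgroup G)) hP1 hP2 hrel
  have hcl := isIrr_isClassFunction χ.2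
  have hch := isIrr_isCharacter χ.2
  -- the values
  have hord : ∀ k : ℕ, ¬ 11 ∣ k → orderOf (x ^ k) = 11 := by
    intro k hk
    rw [orderOf_pow' x (fun h => hk (by rw [h]; exact dvd_zero _)), hx, Nat.Coprime.gcd_eq_one, Nat.div_one]
    exact (Nat.Prime.coprime_iff_not_dvd (by norm_num)).2 hk
  have hstep : ∀ k : ℕ, (χ : G → ℂ) (x ^ (k * u)) = (χ : G → ℂ) (x ^ k) := by
    intro k
    have h1 : x ^ (k * u) = n * x ^ k * n⁻¹ := by
      rw [mul_comm, pow_mul, ← hn, conj_pow]
    rw [h1, isClassFunction_def.1 hcl]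
  have hneg : ∀ k : ℕ, ¬ 11 ∣ k → (χ : G → ℂ) (x ^ (k * 10)) = (χ : G → ℂ) (x ^ k) := by
    intro k hk
    have h1 : x ^ (k * 10) = (x ^ k)⁻¹ := by
      apply eq_inv_of_mul_eq_one_left
      rw [← pow_add, show k * 10 + k = 11 * k by ring, pow_mul, ← hx, pow_orderOf_eq_one, one_pow]
    rw [h1, isCharacter_apply_inv hch, hreal _ (hord k hk)]
  have hmod : ∀ k : ℕ, (χ : G → ℂ) (x ^ (k % 11)) = (χ : G → ℂ) (x ^ k) := by
    intro k
    rw [← hx, pow_mod_orderOf]
  have hall : ∀ k : ℕ, ¬ 11 ∣ k → (χ : G → ℂ) (x ^ k) = (χ : G → ℂ) x := by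
    have h1 : ∀ a : ℕ, (χ : G → ℂ) (x ^ (u ^ a)) = (χ : G → ℂ) x := by
      intro a
      induction a with
      | zero => rw [pow_zero, pow_one]
      | succ a ih => rw [pow_succ, hstep, ih]
    have hu11 : u < 11 := hu
    have hnd : ∀ a : ℕ, ¬ 11 ∣ u ^ a := by
      intro a h
      have h2 : 11 ∣ u := Nat.Prime.dvd_of_dvd_pow (by norm_num) h
      have h3 : u = 0 := Nat.eq_zero_of_dvd_of_lt h2 hu11
      rw [h3] at hu5
      norm_num at hu5
    intro k hk
    obtain ⟨a, ha⟩ := hdec hu11 hu1 hu5 (Nat.mod_lt k (by norm_num)) (fun h => hk (Nat.dvd_of_mod_eq_zero h))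
    rw [← hmod k]
    rcases ha with ha | ha
    · rw [← ha, hmod, h1]
    · rw [← ha, hmod, hneg _ (hnd a), h1]
  -- all elements of order 11
  have hval : ∀ z : G, orderOf z = 11 → (χ : G → ℂ) z = (χ : G → ℂ) x := by
    intro z hz
    obtain ⟨j, hj, hc⟩ := H713.Two.Sing.isConj_pow hfac hx hz
    obtain ⟨g, hg⟩ := isConj_iff.1 hc
    rw [← hall j hj, ← hg, isClassFunction_def.1 hcl]
  -- the sum
  have hcsum := hcol χ
  have hP' : Nat.card (P : Subgroup G) = 11 := hP
  have := Fintype.ofFinite (P : Subgroup G)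
  rw [csum_eq_erase, Finset.sum_congr rfl (g := fun _ => (χ : G → ℂ) x), Finset.sum_const, Finset.card_erase_of_mem
    (Finset.mem_univ _), Finset.card_univ, ← Nat.card_eq_fintype_card, hP', hWv] at hcsum
  · have h1 : (χ : G → ℂ) x = ((-1 / 2 : ℚ) : ℂ) := by
      have h2 : ((5 : ℕ) : ℂ) * ((-1 : ℤ) : ℂ) = (11 - 1) • (χ : G → ℂ) x := hcsum
      rw [nsmul_eq_mul] at h2
      push_cast at h2 ⊢
      linear_combination -h2 / 10
    obtain ⟨n', ρ, -, hρ⟩ := χ.2
    have hint : IsIntegral ℤ ((-1 / 2 : ℚ) : ℂ) := by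
      rw [← h1, ← hρ]
      exact Cfsg.Agent.Characters.Values.character_isIntegral ρ x
    obtain ⟨w, hw⟩ := Cfsg.Agent.SmallSimple.InvolColumn.exists_int_of_isIntegral hint
    have h3 : (2 * w : ℚ) = -1 := by rw [hw]; norm_num
    have h4 : 2 * w = -1 := by exact_mod_cast h3
    omega
  · intro z hz
    refine hval z ?_
    have hz1 : z ≠ 1 := Finset.ne_of_mem_erase hz
    rw [Subgroup.orderOf_coe]
    have h5 := orderOf_dvd_natCard z
    rw [hP'] at h5
    exact ((Nat.dvd_prime (by norm_num)).1 h5).resolve_left (by rw [orderOf_eq_one_iff]; exact hz1)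

theorem fac11 : (Nat.card Spor.Co3).factorization 11 = 1 := by
  rw [card, show (495766656000 : ℕ) = 11 * 45069696000 by norm_num, Nat.factorization_mul (by norm_num) (by norm_num),
    Finsupp.add_apply, Nat.Prime.factorization_self (by norm_num), Nat.factorization_eq_zero_of_not_dvd (by norm_num)]

theorem no126 (χ : IrrCharacter Spor.Co3) : charDegree (χ : Spor.Co3 → ℂ) ≠ 126 := by
  intro hd
  classical
  have := simple
  have := fin
  have : Finite (IrrCharacter Spor.Co3) := finite_irr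
  have := Fintype.ofFinite (IrrCharacter Spor.Co3)
  obtain ⟨x, hx⟩ := exists_order card (p := 23) (by norm_num) (by norm_num)
  obtain ⟨NE, X, D⟩ := H65.Ore.exists_dat not_comm (p := 23) (by norm_num) card hx (cent23 hx) 11 2 94 (by decide +kernel)
  -- characters of degree 126 belong to `X`
  have key : ∀ ψ : IrrCharacter Spor.Co3, charDegree (ψ : Spor.Co3 → ℂ) = 126 → ψ ∈ X := by
    intro ψ hψ
    by_contra hX
    by_cases hNE : ψ ∈ NE
    · have := D.ne_deg ψ hNE
      rw [hψ] at this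
      omega
    have h0 := D.off ψ hNE hX
    have : Fact (Nat.Prime 23) := ⟨by norm_num⟩
    obtain ⟨P, W, hP, he, hcol, hW⟩ := exists_col not_comm card hx (k := 1) (by rw [cent23 hx]) c23.e c23.t c23.wl c23.c
      c23.b (List.all_eq_true.1 ok c23 List.mem_cons_self)
    have hP' : Nat.card (P : Subgroup Spor.Co3) = 23 := hP
    have hcsum := hcol ψ
    have := Fintype.ofFinite (P : Subgroup Spor.Co3)
    rw [csum_eq_erase, Finset.sum_eq_zero] at hcsum
    · have hW0 : W ψ = 0 := by
        rcases mul_eq_zero.1 hcsum with h | h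
        · exact absurd h (by norm_num [c23])
        · exact_mod_cast h
      have h1 : (charDegree (ψ : Spor.Co3 → ℂ) % 23, W ψ) ∈ c23.wl := hW.mem ψ
      rw [hψ, hW0] at h1
      exact absurd h1 (by decide)
    · intro z hz
      apply h0
      have hz1 : z ≠ 1 := Finset.ne_of_mem_erase hz
      rw [Subgroup.orderOf_coe]
      have h5 := orderOf_dvd_natCard z
      rw [hP'] at h5
      exact ((Nat.dvd_prime (by norm_num)).1 h5).resolve_left (by rw [orderOf_eq_one_iff]; exact hz1)
  -- the conjugate character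
  let χ' : IrrCharacter Spor.Co3 := ⟨fun g => conj ((χ : Spor.Co3 → ℂ) g), isIrr_conj χ.2⟩
  have hd' : charDegree (χ' : Spor.Co3 → ℂ) = 126 := by
    have h1 := Blocks.Knorr.charDegree_eq χ'.2
    have h2 : (χ' : Spor.Co3 → ℂ) 1 = conj ((χ : Spor.Co3 → ℂ) 1) := rfl
    rw [h2, Blocks.Knorr.charDegree_eq χ.2, hd] at h1
    have h3 : ((126 : ℕ) : ℂ) = (charDegree (χ' : Spor.Co3 → ℂ) : ℂ) := by rw [← h1, Complex.conj_natCast]
    exact_mod_cast h3.symm
  refine not_real not_comm card (has c11 (List.mem_cons_of_mem _ List.mem_cons_self))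
    (List.all_eq_true.1 ok c11 (List.mem_cons_of_mem _ List.mem_cons_self)) fac11 χ (fun y hy => ?_) (by rw [hd])
  exact D.eq_of χ' (key χ' hd') χ (key χ hd) y (by rw [hy]; norm_num)

/-! ### T1 -/

theorem noDeg' : NoDeg Spor.Co3 [22, 45, 126] := by
  intro χ h
  simp only [List.mem_cons, List.not_mem_nil, or_false] at h
  rcases h with h | h | h
  · exact no22 χ h
  · exact no45 χ h
  · exact no126 χ h

theorem chkX' : allDiv (264 * 264) (tstOn (pX 23 11) 21 [22, 45, 126] cd) facs 1 = true := by decide +kernel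

/-- **the degrees `± 11` mod 23** -/
theorem degX' : DegOn Spor.Co3 (pX 23 11) 264 := by
  have := simple
  have := fin
  exact degOn_of_check not_comm _ card facs facs_prime facs_prod cd ok has minDeg21 noDeg' chkX'

/-- **T1 for `Co3`.** -/
theorem t1' : T1 Spor.Co3 703 := by
  have := simple
  have := fin
  intro g hg
  obtain ⟨x, hx⟩ := exists_order card (p := 23) (by norm_num) (by norm_num)
  refine H65.Ore.comm_all not_comm (p := 23) (by norm_num) card hx (cent23 hx) 11 2 94 (by decide +kernel)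
    (DN := 160) (DX := 264) (c := 703) (fun χ h1 h2 => degNE χ h1 ?_) (fun χ h1 h2 => degX' χ h1 ?_) (by norm_num)
    (by norm_num) hg
  · rcases h2 with h2 | h2
    · simp [pNE, h2]
    · simp [pNE, h2]
  · rcases h2 with h2 | h2
    · simp [pX, h2]
    · simp [pX, h2]

end Cfsg.Agent.H133.Ore.Co3
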