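import Cfsg.Agent.H133.Ore.Orb
import Cfsg.Agent.SuzThree.NormElts

/-!
# ORE (S2443): `Suz`, the orbits of `M₁₁` on the characters of `3⁵` (helper133)

The orbits have lengths 110 and 132, so the nontrivial complex representations have degree at least 110.
-/

set_option autoImplicit false
set_option maxRecDepth 100000

namespace Cfsg.Agent.H133.Ore.SuzOrb

open Cfsg Cfsg.Spor Cfsg.Agent.Lib.PermNet Cfsg.Agent.Lib.PermNetOrbit Cfsg.Agent.SporadicRecognition.SuzPhi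
  Cfsg.Agent.SporadicRecognition.SuzBound Cfsg.Agent.SporadicRecognition.SuzOrder
  Cfsg.Agent.SuzThree.Nets Cfsg.Agent.SuzThree.Basic Cfsg.Agent.SuzThree.Elts
  Cfsg.Agent.SuzThree.Elementary Cfsg.Agent.SuzThree.NormElts
open Cfsg.Agent.H133.Ore.Orb

/-- the parametrised subgroup -/
noncomputable def x5 (a : Fin 5 → ZMod 3) : Suz := E (a 0, a 1, a 2, a 3, a 4)

theorem x5_add (a b : Fin 5 → ZMod 3) : x5 (a + b) = x5 a * x5 b := by
  unfold x5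
  rw [← E_add]
  rfl

theorem x5_inj : Function.Injective x5 := by
  intro a b h
  have h1 := E_injective h
  simp only [Prod.mk.injEq] at h1
  funext i
  fin_cases i
  · exact h1.1
  · exact h1.2.1
  · exact h1.2.2.1
  · exact h1.2.2.2.1
  · exact h1.2.2.2.2

theorem img {w : List Suz.Gen} {f : Ix} {v : V}
    (h : checkEq 11 (wd w ++ [xN f] ++ wd w.reverse) (eW v) = true) : el w * E (vec f) * (el w)⁻¹ = E v := by
  have h1 : Rep (el w * x f * el w.reverse) (wd w ++ [xN f] ++ wd w.reverse) :=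
    ((Rep.el w).mul (rep_x f)).mul (Rep.el _)
  rw [← x_eq, ← el_reverse]
  exact eq_of_reps h1 (rep_E v) h

/-- the matrix -/
def M0 : List (List ℕ) := [[1, 0, 0, 0, 0], [0, 0, 0, 1, 0], [1, 2, 2, 2, 0], [0, 1, 0, 0, 0], [2, 2, 2, 0, 1]]

theorem img00 : el (nw .j0) * E (vec .i0) * (el (nw .j0))⁻¹ = E (1, 0, 0, 0, 0) := img (by decide +kernel)
theorem img01 : el (nw .j0) * E (vec .i1) * (el (nw .j0))⁻¹ = E (0, 0, 0, 1, 0) := img (by decide +kernel)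
theorem img02 : el (nw .j0) * E (vec .i2) * (el (nw .j0))⁻¹ = E (1, 2, 2, 2, 0) := img (by decide +kernel)
theorem img03 : el (nw .j0) * E (vec .i3) * (el (nw .j0))⁻¹ = E (0, 1, 0, 0, 0) := img (by decide +kernel)
theorem img04 : el (nw .j0) * E (vec .i4) * (el (nw .j0))⁻¹ = E (2, 2, 2, 0, 1) := img (by decide +kernel)

theorem nrm0 : Nrm x5 (el (nw .j0)) (mat 3 5 M0) := by
  refine ⟨fun i => ?_⟩
  fin_cases i
  · exact img00
  · exact img01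
  · exact img02
  · exact img03
  · exact img04

/-- the matrix -/
def M1 : List (List ℕ) := [[1, 0, 0, 0, 0], [0, 0, 1, 0, 0], [0, 1, 0, 0, 0], [1, 2, 2, 2, 0], [0, 0, 0, 0, 1]]

theorem img10 : el (nw .j1) * E (vec .i0) * (el (nw .j1))⁻¹ = E (1, 0, 0, 0, 0) := img (by decide +kernel)
theorem img11 : el (nw .j1) * E (vec .i1) * (el (nw .j1))⁻¹ = E (0, 0, 1, 0, 0) := img (by decide +kernel)
theorem img12 : el (nw .j1) * E (vec .i2) * (el (nw .j1))⁻¹ = E (0, 1, 0, 0, 0) := img (by decide +kernel)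
theorem img13 : el (nw .j1) * E (vec .i3) * (el (nw .j1))⁻¹ = E (1, 2, 2, 2, 0) := img (by decide +kernel)
theorem img14 : el (nw .j1) * E (vec .i4) * (el (nw .j1))⁻¹ = E (0, 0, 0, 0, 1) := img (by decide +kernel)

theorem nrm1 : Nrm x5 (el (nw .j1)) (mat 3 5 M1) := by
  refine ⟨fun i => ?_⟩
  fin_cases i
  · exact img10
  · exact img11
  · exact img12
  · exact img13
  · exact img14

/-- the matrix -/
def M2 : List (List ℕ) := [[1, 0, 0, 0, 0], [0, 1, 0, 0, 0], [2, 1, 0, 2, 1], [0, 2, 1, 1, 1], [1, 1, 2, 1, 1]]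

theorem img20 : el (nw .j2) * E (vec .i0) * (el (nw .j2))⁻¹ = E (1, 0, 0, 0, 0) := img (by decide +kernel)
theorem img21 : el (nw .j2) * E (vec .i1) * (el (nw .j2))⁻¹ = E (0, 1, 0, 0, 0) := img (by decide +kernel)
theorem img22 : el (nw .j2) * E (vec .i2) * (el (nw .j2))⁻¹ = E (2, 1, 0, 2, 1) := img (by decide +kernel)
theorem img23 : el (nw .j2) * E (vec .i3) * (el (nw .j2))⁻¹ = E (0, 2, 1, 1, 1) := img (by decide +kernel)
theorem img24 : el (nw .j2) * E (vec .i4) * (el (nw .j2))⁻¹ = E (1, 1, 2, 1, 1) := img (by decide +kernel)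

theorem nrm2 : Nrm x5 (el (nw .j2)) (mat 3 5 M2) := by
  refine ⟨fun i => ?_⟩
  fin_cases i
  · exact img20
  · exact img21
  · exact img22
  · exact img23
  · exact img24

/-- the matrix -/
def M3 : List (List ℕ) := [[1, 0, 0, 0, 0], [1, 1, 1, 0, 2], [0, 1, 2, 2, 2], [2, 2, 1, 2, 2], [2, 1, 0, 2, 1]]

theorem img30 : el (nw .j3) * E (vec .i0) * (el (nw .j3))⁻¹ = E (1, 0, 0, 0, 0) := img (by decide +kernel)
theorem img31 : el (nw .j3) * E (vec .i1) * (el (nw .j3))⁻¹ = E (1, 1, 1, 0, 2) := img (by decide +kernel)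
theorem img32 : el (nw .j3) * E (vec .i2) * (el (nw .j3))⁻¹ = E (0, 1, 2, 2, 2) := img (by decide +kernel)
theorem img33 : el (nw .j3) * E (vec .i3) * (el (nw .j3))⁻¹ = E (2, 2, 1, 2, 2) := img (by decide +kernel)
theorem img34 : el (nw .j3) * E (vec .i4) * (el (nw .j3))⁻¹ = E (2, 1, 0, 2, 1) := img (by decide +kernel)

theorem nrm3 : Nrm x5 (el (nw .j3)) (mat 3 5 M3) := by
  refine ⟨fun i => ?_⟩
  fin_cases i
  · exact img30
  · exact img31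
  · exact img32
  · exact img33
  · exact img34

/-- the matrix -/
def M4 : List (List ℕ) := [[2, 0, 0, 0, 0], [0, 0, 0, 2, 0], [0, 2, 1, 1, 1], [1, 2, 2, 2, 0], [0, 0, 2, 0, 0]]

theorem img40 : el (nw .j4) * E (vec .i0) * (el (nw .j4))⁻¹ = E (2, 0, 0, 0, 0) := img (by decide +kernel)
theorem img41 : el (nw .j4) * E (vec .i1) * (el (nw .j4))⁻¹ = E (0, 0, 0, 2, 0) := img (by decide +kernel)
theorem img42 : el (nw .j4) * E (vec .i2) * (el (nw .j4))⁻¹ = E (0, 2, 1, 1, 1) := img (by decide +kernel)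
theorem img43 : el (nw .j4) * E (vec .i3) * (el (nw .j4))⁻¹ = E (1, 2, 2, 2, 0) := img (by decide +kernel)
theorem img44 : el (nw .j4) * E (vec .i4) * (el (nw .j4))⁻¹ = E (0, 0, 2, 0, 0) := img (by decide +kernel)

theorem nrm4 : Nrm x5 (el (nw .j4)) (mat 3 5 M4) := by
  refine ⟨fun i => ?_⟩
  fin_cases i
  · exact img40
  · exact img41
  · exact img42
  · exact img43
  · exact img44

/-- the matrix -/
def M5 : List (List ℕ) := [[0, 2, 0, 0, 0], [2, 0, 0, 0, 0], [0, 0, 0, 1, 0], [0, 0, 1, 0, 0], [1, 1, 2, 1, 1]]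

theorem img50 : el (nw .j5) * E (vec .i0) * (el (nw .j5))⁻¹ = E (0, 2, 0, 0, 0) := img (by decide +kernel)
theorem img51 : el (nw .j5) * E (vec .i1) * (el (nw .j5))⁻¹ = E (2, 0, 0, 0, 0) := img (by decide +kernel)
theorem img52 : el (nw .j5) * E (vec .i2) * (el (nw .j5))⁻¹ = E (0, 0, 0, 1, 0) := img (by decide +kernel)
theorem img53 : el (nw .j5) * E (vec .i3) * (el (nw .j5))⁻¹ = E (0, 0, 1, 0, 0) := img (by decide +kernel)
theorem img54 : el (nw .j5) * E (vec .i4) * (el (nw .j5))⁻¹ = E (1, 1, 2, 1, 1) := img (by decide +kernel)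

theorem nrm5 : Nrm x5 (el (nw .j5)) (mat 3 5 M5) := by
  refine ⟨fun i => ?_⟩
  fin_cases i
  · exact img50
  · exact img51
  · exact img52
  · exact img53
  · exact img54

/-- the matrices -/
def Ms : List (List (List ℕ)) := [M0, M1, M2, M3, M4, M5]

theorem hM : ∀ j < Ms.length, ∃ g : Suz, Nrm x5 g (mat 3 5 (Ms.getD j [])) := by
  intro j hj
  have hj' : j < 6 := hj
  interval_cases j
  · exact ⟨_, nrm0⟩
  · exact ⟨_, nrm1⟩
  · exact ⟨_, nrm2⟩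
  · exact ⟨_, nrm3⟩
  · exact ⟨_, nrm4⟩
  · exact ⟨_, nrm5⟩

/-- the tree -/
def T : List Ent := [(0, 0, 0, 0), (0, 0, 0, 1), (165, 5, 4, 1), (83, 5, 4, 1), (220, 2, 2, 1), (77, 2, 4, 1), (45, 1, 3, 1), (100, 3, 2, 1), (20, 1, 4, 1), (57, 1, 4, 1), (4, 1, 3, 1), (166, 4, 3, 1), (29, 5, 2, 1), (218, 4, 4, 1), (142, 4, 3, 1), (109, 5, 3, 1), (0, 0, 0, 16), (28, 4, 2, 1), (33, 1, 5, 1), (199, 3, 3, 1), (164, 0, 3, 1), (126, 3, 3, 1), (199, 0, 3, 1), (71, 1, 5, 16), (165, 3, 4, 1), (142, 3, 3, 1), (220, 5, 2, 1), (126, 2, 3, 1), (1, 1, 1, 1), (1, 4, 1, 1), (165, 2, 4, 1), (130, 0, 3, 1), (220, 4, 2, 1), (10, 5, 4, 1), (142, 2, 3, 1), (74, 1, 3, 16), (72, 2, 4, 1), (58, 1, 3, 16), (82, 4, 4, 1), (12, 1, 3, 1), (208, 3, 3, 16), (212, 0, 3, 16), (199, 5, 3, 1), (220, 0, 2, 1), (121, 5, 2, 16), (87, 4, 2, 1), (82, 3, 4, 1), (62, 1, 4, 1), (65, 5, 4, 1), (16, 1, 1, 16), (44, 1, 3,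 16), (192, 4, 5, 16), (232, 5, 2, 16), (26, 1, 3, 1), (225, 2, 3, 1), (13, 3, 5, 1), (89, 0, 4, 1), (195, 0, 3, 1), (121, 2, 2, 16), (65, 1, 4, 1), (100, 5, 2, 1), (19, 1, 4, 1), (17, 2, 3, 1), (126, 5, 3, 1), (31, 1, 4, 1), (164, 3, 3, 1), (209, 5, 2, 16), (34, 0, 4, 1), (41, 1, 4, 16), (27, 4, 4, 1), (238, 3, 3, 16), (206, 2, 4, 16), (60, 1, 3, 1), (109, 2, 3, 1), (209, 2, 2, 16), (42, 0, 4, 1), (175, 2, 4, 16), (17, 1, 3, 1), (235, 5, 4, 1), (52, 1, 3, 16), (193, 4, 3, 16), (183, 4, 4, 1), (109, 1, 3, 1), (137, 1, 3, 1), (164, 5, 3, 1), (77, 4, 4, 1), (235, 4, 4, 1), (1, 5, 1, 1), (232, 3, 2, 16), (166, 5, 3, 1), (27, 5, 4, 1), (163, 0, 5, 1), (206, 3, 4, 16), (240, 4, 4, 16), (133, 3, 4, 16), (29, 0, 2, 1), (126, 4, 3, 1), (130, 1, 3, 1), (158, 1, 4, 16), (216, 5, 4, 1), (1, 2, 1, 1), (89, 1, 4, 1), (177, 3, 3, 1), (124, 1, 4, 16), (209, 0, 2, 16), (159, 1, 4, 1), (134,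 4, 4, 16), (49, 4, 2, 16), (42, 3, 4, 1), (172, 3, 2, 1), (184, 4, 3, 16), (11, 5, 4, 1), (76, 3, 5, 16), (212, 2, 3, 16), (99, 1, 5, 1), (148, 0, 5, 16), (155, 1, 4, 1), (12, 0, 3, 1), (193, 3, 3, 16), (11, 2, 4, 1), (93, 1, 5, 16), (16, 3, 1, 16), (149, 1, 4, 16), (37, 5, 4, 16), (154, 3, 3, 16), (50, 3, 4, 16), (87, 1, 2, 1), (188, 4, 4, 16), (103, 4, 5, 16), (146, 5, 4, 16), (28, 3, 2, 1), (79, 4, 4, 16), (226, 5, 2, 16), (160, 1, 3, 16), (107, 1, 3, 16), (96, 0, 4, 1), (25, 0, 4, 1), (100, 4, 2, 1), (63, 3, 4, 1), (238, 2, 3, 16), (146, 1, 4, 16), (240, 0, 4, 16), (100, 1, 2, 1), (134, 2, 4, 16), (84, 1, 4, 1), (37, 2, 4, 16), (107, 0, 3, 16), (72, 4, 4, 1), (134, 5, 4, 16), (212, 5, 3, 16), (129, 1, 5, 16), (157, 1, 3, 16), (49, 5, 2, 16), (141, 1, 5, 16), (226, 2, 2, 16), (17, 0, 3, 1), (192, 2, 5, 16), (49, 2, 2, 16), (238, 4, 3, 16), (60, 0, 3, 1), (232, 0, 2, 16),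 (238, 5, 3, 16), (96, 4, 4, 1), (97, 3, 4, 1), (172, 4, 2, 1), (225, 1, 3, 1), (172, 1, 2, 1), (148, 4, 5, 16), (82, 5, 4, 1), (235, 0, 4, 1), (137, 0, 3, 1), (177, 4, 3, 1), (1, 0, 1, 1), (10, 4, 4, 1), (144, 4, 5, 1), (229, 1, 3, 16), (229, 4, 3, 16), (28, 5, 2, 1), (79, 3, 4, 16), (209, 3, 2, 16), (195, 1, 3, 1), (157, 3, 3, 16), (170, 1, 4, 1), (177, 1, 3, 1), (196, 3, 2, 16), (233, 1, 4, 1), (240, 1, 4, 16), (10, 3, 4, 1), (215, 1, 3, 16), (12, 4, 3, 1), (82, 2, 4, 1), (97, 4, 4, 1), (198, 1, 4, 16), (226, 1, 2, 16), (14, 3, 4, 1), (172, 5, 2, 1), (16, 5, 1, 16), (158, 0, 4, 16), (132, 3, 3, 16), (28, 2, 2, 1), (239, 3, 4, 16), (21, 2, 4, 1), (139, 3, 4, 16), (35, 3, 4, 16), (66, 3, 3, 16), (184, 1, 3, 16), (212, 1, 3, 16), (168, 1, 5, 1), (196, 1, 2, 16), (16, 4, 1, 16), (227, 5, 4, 16), (40, 2, 4, 16), (226, 4, 2, 16), (6, 2, 4, 1), (206, 4, 4, 16), (121, 4, 2, 16),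 (177, 0, 3, 1), (208, 2, 3, 16), (164, 1, 3, 1), (171, 1, 4, 1), (1, 3, 1, 1), (232, 4, 2, 16), (19, 5, 4, 1), (151, 2, 4, 16), (209, 1, 2, 16), (87, 0, 2, 1), (16, 0, 1, 16), (221, 1, 3, 16), (128, 5, 6, 16), (49, 3, 2, 16), (70, 4, 4, 16), (208, 5, 3, 16), (16, 2, 1, 16), (199, 4, 3, 1), (27, 3, 4, 1), (166, 3, 3, 1), (175, 4, 4, 16), (74, 5, 3, 16), (232, 1, 2, 16), (179, 1, 3, 16), (154, 5, 3, 16), (70, 0, 4, 16), (37, 4, 4, 16)]

theorem tree : treeOK 3 5 Ms T = true := by decide +kernel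

theorem roots : rootsOK 3 5 110 T [1, 16] = true := by decide +kernel

/-- **the degrees of the nontrivial representations of `Suz`** -/
theorem le_finrank [IsSimpleGroup Suz] {W : Type*} [AddCommGroup W] [Module ℂ W] [FiniteDimensional ℂ W]
    (ρ : Representation ℂ Suz W) (hρ : ∃ g, ρ g ≠ 1) : 110 ≤ Module.finrank ℂ W :=
  Orb.le_finrank x5_add x5_inj ρ hρ (by norm_num) hM tree roots

end Cfsg.Agent.H133.Ore.SuzOrb
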