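import Cfsg.Agent.H133.Ore.Tools
import Cfsg.Agent.H133.Ore.SuzOrb
import Cfsg.Agent.H474.Suz13.Main
import Cfsg.Agent.OddHalf.Table.OutSuz

/-!
# ORE (S2443), T1 for `Suz` (helper133)

* `Suz.minDeg` : the nontrivial degrees are at least 110;
* `Suz.degOff` : `DegOff Spor.Suz 11 144`; `Suz.isC` : `|C(g)| ≤ 2073` gives `IsC g`.
-/

set_option autoImplicit false

open Cfsg Subgroup

namespace Cfsg.Agent.H133.Ore.Suz

open Cfsg.Agent.H653.Sieve Cfsg.Agent.H651.Two Cfsg.Agent.Characters.Core
open Cfsg.Agent.H511.Ore (MinDeg NoDeg DegOff s4 tst isC_of_data degOff_of_check)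
open Cfsg.Agent.H777.Ore (IsC)

def c11 : CD := ⟨11, 1, 10, 1, [(0, 0), (1, 1), (10, -1)], 0, false⟩

def c13 : CD := ⟨13, 1, 6, 2, [(0, 0), (1, 2), (6, -1), (7, 1), (12, -2)], 2, true⟩

def cd : List CD := [c11, c13]

theorem ok : (cd.all (CD.ok 448345497600)) = true := by decide +kernel

def facs : List (ℕ × ℕ) := [(13, 1), (11, 1), (7, 1), (5, 2), (3, 7), (2, 13)]

theorem facs_prime : (facs.all fun pa => Nat.Prime pa.1) = true := by norm_num [facs]

theorem facs_prod : facProd facs = 448345497600 := by decide +kernel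

theorem chk : allDiv (144 * 144) (tst 11 110 [] cd) facs 1 = true := by decide +kernel

theorem simple : IsSimpleGroup Spor.Suz := Cfsg.Agent.SporadicRecognition.SuzOrder.simple

theorem card : Nat.card Spor.Suz = 448345497600 := Cfsg.Agent.SporadicRecognition.SuzOrder.card_Suz

theorem fin : Finite Spor.Suz := Nat.finite_of_card_ne_zero (by rw [card]; norm_num)

theorem not_comm : ¬ IsMulCommutative Spor.Suz := by
  have := simple
  have := fin
  exact not_comm_of (by rw [card]; norm_num)

theorem minDeg : MinDeg Spor.Suz 110 := by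
  have := simple
  have := fin
  refine minDeg_of_irr not_comm fun k ρ hρ hk => ?_
  have h := SuzOrb.le_finrank ρ (Cfsg.Agent.H121.Chr.exists_ne_one ρ hρ hk)
  rwa [Module.finrank_fin_fun] at h

theorem cent11 : ∃ x : Spor.Suz, orderOf x = 11 ∧ Nat.card (centralizer ({x} : Set Spor.Suz)) = 11 := by
  have ho : orderOf Cfsg.Agent.OddHalf.Table.SuzRep.x = 11 := Cfsg.Agent.OddHalf.Table.OutSuz.order_x
  refine ⟨Cfsg.Agent.OddHalf.Table.SuzRep.x, ho, ?_⟩
  have h : centralizer ({Cfsg.Agent.OddHalf.Table.SuzRep.x} : Set Spor.Suz) =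
      zpowers Cfsg.Agent.OddHalf.Table.SuzRep.x := by
    apply le_antisymm
    · intro c hc
      obtain ⟨i, rfl⟩ := Cfsg.Agent.OddHalf.Table.OutSuz.cent_x c (mem_centralizer_singleton_iff.1 hc)
      exact ⟨i, zpow_natCast _ _⟩
    · exact zpowers_le.2 (mem_centralizer_singleton_iff.2 rfl)
  rw [h, Nat.card_zpowers, ho]

theorem has : ∀ d ∈ cd, d.Has Spor.Suz := by
  intro d hd
  simp only [cd, List.mem_cons, List.not_mem_nil, or_false] at hd
  rcases hd with rfl | rfl
  · obtain ⟨x, hx, hc⟩ := cent11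
    exact has_of_eq (d := c11) (by norm_num [c11]) hx hc
  · obtain ⟨x, hx, hc⟩ := Cfsg.Agent.H474.Suz13.suz_thirteen
    exact has_of_eq (d := c13) (by norm_num [c13]) hx hc

/-- **degrees prime to 11** -/
theorem degOff : DegOff Spor.Suz 11 144 := by
  have := simple
  have := fin
  exact degOff_of_check not_comm _ card facs facs_prime facs_prod cd ok has minDeg noDeg_nil chk

/-- **T1** -/
theorem isC {g : Spor.Suz} (hg : Nat.card (centralizer ({g} : Set Spor.Suz)) ≤ 2073) : IsC g := by
  have := simple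
  have := fin
  exact isC_of_data not_comm _ card facs facs_prime facs_prod cd ok has minDeg noDeg_nil c11
    List.mem_cons_self rfl chk 2073 (by decide) hg

end Cfsg.Agent.H133.Ore.Suz
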