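import Cfsg.Agent.H133.Ore.Tools
import Cfsg.Agent.SmallSimple.DihedralNormalizerSimple
import Cfsg.Agent.Characters.CentralCharacter
import Cfsg.Agent.SmallSimple.InvolColumn

/-!
# ORE (S2443): values at involutions, stabilisers (helper133)

* `invol_value` : `χ(t) = χ(1) - 2 m`, `0 < m < χ(1)`, `m` even, `χ(1) ∣ |t^G| χ(t)`;
* `sum_stab` : the sum over a point stabiliser of a class function orthogonal to the permutation character;
* `sum_degree_eq` : restriction to a subgroup as a combination of irreducible characters.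
-/

set_option autoImplicit false

open Cfsg Subgroup
open scoped ComplexConjugate

namespace Cfsg.Agent.H133.Ore

open Cfsg.Agent.Characters.Core Cfsg.Agent.SmallSimple.DihedralNormalizerSimple

universe u

section Invol

variable {G : Type u} [Group G] [Finite G] [IsSimpleGroup G]

/-- **The value at an involution.** -/
theorem invol_value (hG : ¬ IsMulCommutative G) (χ : IrrCharacter G) (hχ : (χ : G → ℂ) ≠ 1) {t : G}
    (ht : orderOf t = 2) : ∃ m : ℕ, 0 < m ∧ m < charDegree (χ : G → ℂ) ∧ Even m ∧
      (χ : G → ℂ) t = (charDegree (χ : G → ℂ) : ℂ) - 2 * m ∧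
      (charDegree (χ : G → ℂ) : ℤ) ∣ (centralizer ({t} : Set G)).index * ((charDegree (χ : G → ℂ) : ℤ) - 2 * m) := by
  classical
  have hna : ¬ ∀ a b : G, a * b = b * a := fun h => hG ⟨⟨h⟩⟩
  have ht1 : t ≠ 1 := by
    rintro rfl
    rw [orderOf_one] at ht
    omega
  have htt : t * t = 1 := by rw [← pow_two, ← ht, pow_orderOf_eq_one]
  obtain ⟨f, ρ, hρ, hρχ⟩ := id χ.2
  have hχf : (χ : G → ℂ) 1 = f := by rw [← hρχ, Representation.char_one]; simp
  have hdeg : charDegree (χ : G → ℂ) = f := by
    have h4 := Blocks.Knorr.charDegree_eq χ.2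
    rw [hχf] at h4
    exact_mod_cast h4.symm
  rw [hdeg]
  obtain ⟨m, hmf, hmt, hmdet⟩ := exists_of_involution ρ t htt
  have hχt : (χ : G → ℂ) t = f - 2 * m := by rw [← hρχ, hmt]
  have hirrρ : IsIrrCharacter G ρ.character := by rw [hρχ]; exact χ.2
  have hρ1 : ρ.character ≠ 1 := by rw [hρχ]; exact hχ
  have hm0 : 0 < m := by
    rcases Nat.eq_zero_or_pos m with h0 | h0
    · exfalso
      apply ht1
      apply ker_eq_bot ρ hirrρ hρ1
      have h2 := (Cfsg.Agent.Characters.Values.character_eq_finrank_iff ρ t).1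
        (by rw [hmt, h0]; simp)
      exact h2
    · exact h0
  have hmlt : m < f := by
    rcases Nat.lt_or_ge m f with h0 | h0
    · exact h0
    · exfalso
      have hmf' : m = f := le_antisymm hmf h0
      have h2 : ‖ρ.character t‖ = (Module.finrank ℂ (Fin f → ℂ) : ℝ) := by
        rw [hmt, hmf']
        have : (f : ℂ) - 2 * f = -(f : ℂ) := by ring
        rw [this, norm_neg]
        simp
      obtain ⟨w, hw⟩ := (Cfsg.Agent.Characters.Values.norm_character_eq_iff ρ t).1 h2
      apply hna
      apply comm_of_mem_center ht1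
      intro g
      have h3 : ρ (g * t * g⁻¹ * t⁻¹) = 1 := by
        have hc : ρ g * ρ t = ρ t * ρ g := by
          rw [hw]
          ext x
          simp
        rw [map_mul, map_mul, map_mul, hc, mul_assoc (ρ t), ← map_mul ρ g, mul_inv_cancel, map_one,
          mul_one, ← map_mul, mul_inv_cancel, map_one]
      have h4 := ker_eq_bot ρ hirrρ hρ1 _ h3
      have h5 : g * t = (g * t * g⁻¹ * t⁻¹) * (t * g) := by group
      rw [h4, one_mul] at h5
      exact h5
  have heven : Even m := by
    have h2 : ((LinearMap.det : Module.End ℂ (Fin f → ℂ) →* ℂ).comp ρ).toHomUnits = 1 :=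
      hom_comm_eq_one hna _
    have h3 := congrArg Units.val (DFunLike.congr_fun h2 t)
    rw [MonoidHom.coe_toHomUnits] at h3
    have h4 : LinearMap.det (ρ t) = 1 := h3
    rw [hmdet] at h4
    by_contra hodd
    rw [Nat.not_even_iff_odd] at hodd
    rw [hodd.neg_one_pow] at h4
    norm_num at h4
  refine ⟨m, hm0, hmlt, heven, hχt, ?_⟩
  -- integrality
  have hi := Cfsg.Agent.Characters.CentralCharacter.isIntegral_index_mul_character_div ρ t
  rw [hmt] at hi
  have hfin : Module.finrank ℂ (Fin f → ℂ) = f := by simp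
  rw [hfin] at hi
  have hf0 : (f : ℚ) ≠ 0 := by
    have : f ≠ 0 := by omega
    exact_mod_cast this
  obtain ⟨z, hz⟩ := Cfsg.Agent.SmallSimple.InvolColumn.exists_int_of_isIntegral
    (q := ((centralizer ({t} : Set G)).index : ℚ) * ((f : ℚ) - 2 * m) / f) (by
      have : (((((centralizer ({t} : Set G)).index : ℚ) * ((f : ℚ) - 2 * m) / f : ℚ)) : ℂ) =
        ((centralizer ({t} : Set G)).index : ℂ) * ((f : ℂ) - 2 * m) / f := by push_cast; ring
      rw [this]
      exact hi)
  refine ⟨z, ?_⟩
  have h6 : ((centralizer ({t} : Set G)).index : ℚ) * ((f : ℚ) - 2 * m) = f * z := by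
    rw [hz]
    field_simp
  exact_mod_cast h6

end Invol

/-! ### Stabilisers -/

section Stab

variable {G : Type*} [Group G] [Fintype G] {X : Type*} [MulAction G X] [Finite X]

/-- the sum with the permutation character -/
theorem sum_stab [MulAction.IsPretransitive G X] (x : X) {f : G → ℂ} (hf : IsClassFunction G f)
    [Fintype (MulAction.stabilizer G x)] :
    ∑ g : G, (Nat.card (MulAction.fixedBy X g) : ℂ) * f g =
      (Nat.card X : ℂ) * ∑ h : MulAction.stabilizer G x, f h := by
  classical
  have := Fintype.ofFinite X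
  have h1 : ∀ g : G, (Nat.card (MulAction.fixedBy X g) : ℂ) = ∑ y : X, if g • y = y then (1 : ℂ) else 0 := by
    intro g
    rw [Finset.sum_boole, Nat.card_eq_fintype_card, Fintype.card_subtype]
    rfl
  have h2 : ∀ y : X, ∑ g : G, (if g • y = y then f g else 0) = ∑ h : MulAction.stabilizer G x, f h := by
    intro y
    obtain ⟨k, rfl⟩ := MulAction.exists_smul_eq G x y
    have h3 : ∑ g : G, (if g • k • x = k • x then f g else 0) = ∑ g : G, if g • x = x then f g else 0 := by
      refine Fintype.sum_equiv (MulAut.conj k⁻¹).toEquiv _ _ fun g => ?_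
      have e1 : (MulAut.conj k⁻¹).toEquiv g = k⁻¹ * g * k := by simp
      rw [e1]
      have e2 : (g • k • x = k • x) ↔ ((k⁻¹ * g * k) • x = x) := by
        rw [mul_smul, mul_smul, inv_smul_eq_iff]
      have e3 : f (k⁻¹ * g * k) = f g := by
        have := isClassFunction_def.1 hf g k⁻¹
        rwa [inv_inv] at this
      by_cases hc : g • k • x = k • x
      · rw [if_pos hc, if_pos (e2.1 hc), e3]
      · rw [if_neg hc, if_neg (fun hh => hc (e2.2 hh))]
    rw [h3, ← Finset.sum_filter]
    refine Finset.sum_bij' (fun g hg => ⟨g, (Finset.mem_filter.1 hg).2⟩) (fun h _ => (h : G)) ?_ ?_ ?_ ?_ ?_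
    · intro g hg; exact Finset.mem_univ _
    · intro h _; exact Finset.mem_filter.2 ⟨Finset.mem_univ _, h.2⟩
    · intro g hg; rfl
    · intro h _; rfl
    · intro g hg; rfl
  calc ∑ g : G, (Nat.card (MulAction.fixedBy X g) : ℂ) * f g
      = ∑ g : G, ∑ y : X, if g • y = y then f g else 0 := by
        refine Finset.sum_congr rfl fun g _ => ?_
        rw [h1, Finset.sum_mul]
        refine Finset.sum_congr rfl fun y _ => ?_
        split_ifs <;> simp
    _ = ∑ y : X, ∑ g : G, if g • y = y then f g else 0 := Finset.sum_comm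
    _ = ∑ _y : X, ∑ h : MulAction.stabilizer G x, f h := Finset.sum_congr rfl fun y _ => h2 y
    _ = _ := by rw [Finset.sum_const, Finset.card_univ, nsmul_eq_mul, Nat.card_eq_fintype_card]

end Stab

/-! ### Restriction -/

section Res

variable {H : Type*} [Group H] [Finite H] [Fintype (IrrCharacter H)]

/-- the degrees of the constituents -/
theorem sum_degree_eq {θ : H → ℂ} (hθ : IsCharacter H θ) {n : ℕ} (hn : θ 1 = n) (m : IrrCharacter H → ℕ)
    (hm : θ = ∑ ψ : IrrCharacter H, m ψ • (ψ : H → ℂ)) : ∑ ψ : IrrCharacter H, m ψ * charDegree (ψ : H → ℂ) = n := by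
  have h1 := congrFun hm 1
  rw [Finset.sum_apply, hn] at h1
  have h2 : ((∑ ψ : IrrCharacter H, m ψ * charDegree (ψ : H → ℂ) : ℕ) : ℂ) = (n : ℂ) := by
    rw [h1]
    push_cast
    refine Finset.sum_congr rfl fun ψ _ => ?_
    rw [Pi.smul_apply, nsmul_eq_mul, Blocks.Knorr.charDegree_eq ψ.2]
  exact_mod_cast h2

end Res

end Cfsg.Agent.H133.Ore
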