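import Cfsg.Agent.H121.Chr

/-!
# ORE (S2443): degree bounds from the orbits on the characters of an elementary abelian subgroup (helper133)

`x : (Fin n → ZMod p) → G` a parametrised elementary abelian subgroup, `g j` elements normalising it with matrices `M j`
(`g j * x e_i * (g j)⁻¹ = x (M j i)`).  The characters are coded by natural numbers below `p ^ n`; a tree (parents,
generators, depths, roots) is checked by the kernel.

* `Tree.le_finrank` : a nontrivial representation has degree at least the size of the smallest orbit;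
* `Tree.const` : the multiplicities are constant on the orbits.
-/

set_option autoImplicit false
set_option linter.unusedSectionVars false

namespace Cfsg.Agent.H133.Ore.Orb

open Module Cfsg.Agent.H121.Wt Cfsg.Agent.H121.Chr

/-! ### digits -/

/-- the digit -/
def dg (p c i : ℕ) : ℕ := c / p ^ i % p

theorem dg_inj {p : ℕ} (hp : 0 < p) : ∀ (n : ℕ) {c c' : ℕ}, c < p ^ n → c' < p ^ n →
    (∀ i < n, dg p c i = dg p c' i) → c = c'
  | 0, c, c', h, h', _ => by
    rw [pow_zero] at h h'; omega
  | n + 1, c, c', h, h', hd => by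
    have h0 := hd 0 (Nat.succ_pos n)
    simp only [dg, pow_zero, Nat.div_one] at h0
    have h1 : c / p = c' / p := by
      refine dg_inj hp n (Nat.div_lt_of_lt_mul (by rw [← pow_succ']; exact h))
        (Nat.div_lt_of_lt_mul (by rw [← pow_succ']; exact h')) fun i hi => ?_
      have h2 := hd (i + 1) (Nat.succ_lt_succ hi)
      simp only [dg, pow_succ', ← Nat.div_div_eq_div_mul] at h2
      exact h2
    rw [← Nat.div_add_mod c p, ← Nat.div_add_mod c' p, h0, h1]

variable {p n : ℕ} [hp : Fact p.Prime]

theorem sum_list {R : Type*} [AddCommMonoid R] (f : ℕ → R) : ∀ n : ℕ, ((List.range n).map f).sum = ∑ i : Fin n, f i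
  | 0 => by simp
  | n + 1 => by
    rw [List.range_succ, List.map_append, List.sum_append, sum_list f n, Fin.sum_univ_castSucc]
    simp

/-- the vector of a code -/
def dig (p n c : ℕ) : Fin n → ZMod p := fun i => (dg p c i : ZMod p)

theorem dig_inj {c c' : ℕ} (h : c < p ^ n) (h' : c' < p ^ n) (hd : dig p n c = dig p n c') : c = c' := by
  refine dg_inj hp.out.pos n h h' fun i hi => ?_
  have h1 := congrFun hd ⟨i, hi⟩
  simp only [dig] at h1
  have h2 := congrArg ZMod.val h1
  rw [ZMod.val_natCast_of_lt (show dg p c i < p from Nat.mod_lt _ hp.out.pos),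
    ZMod.val_natCast_of_lt (show dg p c' i < p from Nat.mod_lt _ hp.out.pos)] at h2
  exact h2

theorem dig_surj (w : Fin n → ZMod p) : ∃ c < p ^ n, dig p n c = w := by
  have h1 : Function.Injective (fun c : Fin (p ^ n) => dig p n c) := fun a b h => Fin.ext (dig_inj a.2 b.2 h)
  have h2 : Function.Bijective (fun c : Fin (p ^ n) => dig p n c) := by
    rw [Fintype.bijective_iff_injective_and_card]
    refine ⟨h1, ?_⟩
    rw [Fintype.card_fin, Fintype.card_fun, ZMod.card, Fintype.card_fin]
  obtain ⟨c, hc⟩ := h2.2 w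
  exact ⟨c, c.2, hc⟩

/-! ### the characters -/

/-- the character of a vector -/
noncomputable def lam (w : Fin n → ZMod p) : AddChar (Fin n → ZMod p) ℂ where
  toFun a := ZMod.stdAddChar (∑ i, w i * a i)
  map_zero_eq_one' := by simp
  map_add_eq_mul' a b := by
    rw [← AddChar.map_add_eq_mul, ← Finset.sum_add_distrib]
    congr 1
    exact Finset.sum_congr rfl fun i _ => by rw [Pi.add_apply, mul_add]

theorem lam_apply (w a : Fin n → ZMod p) : lam w a = ZMod.stdAddChar (∑ i, w i * a i) := rfl

theorem lam_single (w : Fin n → ZMod p) (i : Fin n) : lam w (Pi.single i 1) = ZMod.stdAddChar (w i) := by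
  rw [lam_apply]
  congr 1
  rw [Finset.sum_eq_single i (fun j _ hj => by rw [Pi.single_eq_of_ne hj, mul_zero]) (fun h => absurd (Finset.mem_univ i) h),
    Pi.single_eq_same, mul_one]

theorem lam_injective : Function.Injective (lam : (Fin n → ZMod p) → AddChar (Fin n → ZMod p) ℂ) := by
  intro w w' h
  funext i
  have h1 := congrArg (fun χ : AddChar (Fin n → ZMod p) ℂ => χ (Pi.single i 1)) h
  simp only [lam_single] at h1
  exact ZMod.injective_stdAddChar h1

theorem exists_lam (χ : AddChar (Fin n → ZMod p) ℂ) : ∃ w, lam w = χ := by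
  have h2 : Function.Bijective (lam : (Fin n → ZMod p) → AddChar (Fin n → ZMod p) ℂ) := by
    rw [Fintype.bijective_iff_injective_and_card]
    exact ⟨lam_injective, (card_addChar _).symm⟩
  exact h2.2 χ

theorem lam_zero : lam (0 : Fin n → ZMod p) = 1 := by
  ext a
  rw [lam_apply]
  simp

/-- two characters agree if they agree on the basis -/
theorem ext_basis {χ χ' : AddChar (Fin n → ZMod p) ℂ} (h : ∀ i, χ (Pi.single i 1) = χ' (Pi.single i 1)) : χ = χ' := by
  obtain ⟨w, rfl⟩ := exists_lam χ
  obtain ⟨w', rfl⟩ := exists_lam χ'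
  congr 1
  funext i
  have h1 := h i
  rw [lam_single, lam_single] at h1
  exact ZMod.injective_stdAddChar h1

/-! ### the action -/

variable {G : Type*} [Group G] {x : (Fin n → ZMod p) → G}

theorem x_zero (hx : ∀ a b, x (a + b) = x a * x b) : x 0 = 1 := by
  have := hx 0 0
  rw [add_zero] at this
  exact (mul_eq_left.mp this.symm)

/-- the homomorphism -/
def xHom (hx : ∀ a b, x (a + b) = x a * x b) : Multiplicative (Fin n → ZMod p) →* G where
  toFun a := x (Multiplicative.toAdd a)
  map_one' := x_zero hx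
  map_mul' a b := hx _ _

/-- an element normalising the subgroup -/
structure Nrm (x : (Fin n → ZMod p) → G) (g : G) (M : Fin n → Fin n → ZMod p) : Prop where
  img : ∀ i, g * x (Pi.single i 1) * g⁻¹ = x (M i)

theorem closure_single : AddSubgroup.closure (Set.range fun i : Fin n => (Pi.single i 1 : Fin n → ZMod p)) = ⊤ := by
  rw [eq_top_iff]
  intro a _
  have h1 : a = ∑ i, (a i).val • (Pi.single i 1 : Fin n → ZMod p) := by
    funext j
    rw [Finset.sum_apply, Finset.sum_eq_single j]
    · rw [Pi.smul_apply, Pi.single_eq_same, nsmul_eq_mul, mul_one, ZMod.natCast_zmod_val]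
    · intro b _ hb
      rw [Pi.smul_apply, Pi.single_eq_of_ne (Ne.symm hb), smul_zero]
    · intro h; exact absurd (Finset.mem_univ j) h
  rw [h1]
  exact AddSubgroup.sum_mem _ fun i _ => AddSubgroup.nsmul_mem _ (AddSubgroup.subset_closure (Set.mem_range_self i)) _

/-- the linear map of a normalising element -/
theorem Nrm.exists_map (hx : ∀ a b, x (a + b) = x a * x b) (hi : Function.Injective x) {g : G}
    {M : Fin n → Fin n → ZMod p} (h : Nrm x g M) :
    ∃ f : (Fin n → ZMod p) → (Fin n → ZMod p), Function.Bijective f ∧ (∀ a, g * x a = x (f a) * g) ∧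
      (∀ a b, f (a + b) = f a + f b) ∧ ∀ i, f (Pi.single i 1) = M i := by
  have key : ∀ a, ∃ b, g * x a * g⁻¹ = x b := by
    intro a
    have ha : a ∈ AddSubgroup.closure (Set.range fun i : Fin n => (Pi.single i 1 : Fin n → ZMod p)) := by
      rw [closure_single]; trivial
    induction ha using AddSubgroup.closure_induction with
    | mem a ha =>
      obtain ⟨i, rfl⟩ := ha
      exact ⟨_, h.img i⟩
    | zero => exact ⟨0, by rw [x_zero hx, mul_one, mul_inv_cancel]⟩
    | add a b _ _ iha ihb =>
      obtain ⟨a', ha'⟩ := iha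
      obtain ⟨b', hb'⟩ := ihb
      exact ⟨a' + b', by rw [hx, hx, ← ha', ← hb']; group⟩
    | neg a _ iha =>
      obtain ⟨a', ha'⟩ := iha
      refine ⟨-a', ?_⟩
      have e1 : ∀ a, x (-a) = (x a)⁻¹ := fun a => by
        apply eq_inv_of_mul_eq_one_left
        rw [← hx, neg_add_cancel, x_zero hx]
      rw [e1, e1, ← ha']
      group
  choose f hf using key
  have hadd : ∀ a b, f (a + b) = f a + f b := by
    intro a b
    apply hi
    rw [hx, ← hf, ← hf, ← hf, hx]
    group
  refine ⟨f, ?_, fun a => ?_, hadd, fun i => ?_⟩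
  · refine Finite.injective_iff_bijective.1 fun a b hab => ?_
    apply hi
    have h1 := (hf a).trans ((congrArg x hab).trans (hf b).symm)
    exact mul_left_cancel (mul_right_cancel h1)
  · rw [← hf]; group
  · apply hi
    rw [← hf, h.img]

variable {W : Type*} [AddCommGroup W] [Module ℂ W] [FiniteDimensional ℂ W]

/-- the multiplicity of a code -/
noncomputable def mul (x : (Fin n → ZMod p) → G) (ρ : Representation ℂ G W) (c : ℕ) : ℕ :=
  finrank ℂ (wt (fun a => ρ (x a)) (lam (dig p n c)))

/-- the numerical condition: the code `c'` is the transform of `c` -/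
def stepOK (p n : ℕ) (M : List (List ℕ)) (c c' : ℕ) : Bool :=
  (List.range n).all fun i =>
    Nat.beq ((((List.range n).map fun k => dg p c k * ((M.getD i []).getD k 0)).sum) % p) (dg p c' i)

/-- the matrix of the list -/
def mat (p n : ℕ) (M : List (List ℕ)) : Fin n → Fin n → ZMod p := fun i k => (((M.getD i []).getD k 0 : ℕ) : ZMod p)

theorem mul_step (hx : ∀ a b, x (a + b) = x a * x b) (hi : Function.Injective x) (ρ : Representation ℂ G W) {g : G}
    {M : List (List ℕ)} (h : Nrm x g (mat p n M)) {c c' : ℕ} (hc : stepOK p n M c c' = true) :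
    mul x ρ c' = mul x ρ c := by
  obtain ⟨f, hf, hg, hadd, hs⟩ := h.exists_map hx hi
  refine finrank_wt_eq ρ hg hf fun a => ?_
  -- `lam c (f a) = lam c' a`
  let χ : AddChar (Fin n → ZMod p) ℂ :=
    { toFun := fun a => lam (dig p n c) (f a)
      map_zero_eq_one' := by
        have h0 : f 0 = 0 := by
          have := hadd 0 0
          rw [add_zero] at this
          exact (left_eq_add.1 this)
        rw [h0, AddChar.map_zero_eq_one]
      map_add_eq_mul' := fun a b => by rw [hadd, AddChar.map_add_eq_mul] }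
  have h1 : χ = lam (dig p n c') := by
    refine ext_basis fun i => ?_
    show lam (dig p n c) (f (Pi.single i 1)) = _
    rw [hs, lam_single, lam_apply]
    congr 1
    have h2 := List.all_eq_true.1 hc i (List.mem_range.2 i.2)
    have h3 := Nat.eq_of_beq_eq_true h2
    show ∑ k, dig p n c k * mat p n M i k = dig p n c' i
    simp only [dig, mat]
    rw [← h3, ZMod.natCast_mod, Nat.cast_list_sum, List.map_map, sum_list]
    refine Finset.sum_congr rfl fun k _ => ?_
    simp only [Function.comp_apply, Nat.cast_mul]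
  exact (congrArg (fun χ : AddChar (Fin n → ZMod p) ℂ => χ a) h1).symm ▸ rfl

/-! ### The tree -/

/-- an entry: parent, generator, depth, root -/
abbrev Ent := ℕ × ℕ × ℕ × ℕ

/-- the root of a code -/
def rt (T : List Ent) (c : ℕ) : ℕ := (T.getD c (0, 0, 0, 0)).2.2.2

/-- the check of the tree -/
def treeOK (p n : ℕ) (Ms : List (List (List ℕ))) (T : List Ent) : Bool :=
  (List.range (p ^ n)).all fun c =>
    match T.getD c (0, 0, 0, 0) with
    | (par, gen, dep, root) => Nat.beq root c ||
      (match T.getD par (0, 0, 0, 0) with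
      | (_, _, dep', root') => Nat.blt dep' dep && (Nat.beq root' root && (Nat.blt par (p ^ n) &&
        (Nat.blt gen Ms.length && stepOK p n (Ms.getD gen []) par c))))

/-- the multiplicities are constant on the orbits -/
theorem const (hx : ∀ a b, x (a + b) = x a * x b) (hi : Function.Injective x) (ρ : Representation ℂ G W)
    {Ms : List (List (List ℕ))} (hM : ∀ j < Ms.length, ∃ g : G, Nrm x g (mat p n (Ms.getD j []))) {T : List Ent}
    (hT : treeOK p n Ms T = true) : ∀ {c : ℕ}, c < p ^ n → mul x ρ c = mul x ρ (rt T c) := by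
  have key : ∀ (d : ℕ) {c : ℕ}, c < p ^ n → (T.getD c (0, 0, 0, 0)).2.2.1 < d → mul x ρ c = mul x ρ (rt T c) := by
    intro d
    induction d with
    | zero => intro c _ h; exact absurd h (Nat.not_lt_zero _)
    | succ d ih =>
      intro c hc hd
      have h1 := List.all_eq_true.1 hT c (List.mem_range.2 hc)
      rcases hc1 : T.getD c (0, 0, 0, 0) with ⟨par, gen, dep, root⟩
      rcases hc2 : T.getD par (0, 0, 0, 0) with ⟨par', gen', dep', root'⟩
      rw [hc1] at h1 hd
      simp only [hc2, Bool.or_eq_true, Bool.and_eq_true, Nat.blt_eq] at h1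
      have hr : rt T c = root := by rw [rt, hc1]
      rcases h1 with h1 | ⟨h1, h2, h3, h4, h5⟩
      · rw [hr, Nat.eq_of_beq_eq_true h1]
      · obtain ⟨g, hg⟩ := hM gen h4
        rw [mul_step hx hi ρ hg h5, ih h3 (by rw [hc2]; exact lt_of_lt_of_le h1 (Nat.lt_succ_iff.1 hd)), hr]
        have h6 : rt T par = root' := by rw [rt, hc2]
        rw [h6, Nat.eq_of_beq_eq_true h2]
  intro c hc
  exact key _ hc (Nat.lt_succ_self _)

/-- the number of codes with root `r` -/
def cnt (p n : ℕ) (T : List Ent) (r : ℕ) : ℕ := ((List.range (p ^ n)).filter fun c => Nat.beq (rt T c) r).length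

/-- the check of the roots -/
def rootsOK (p n B : ℕ) (T : List Ent) (rs : List ℕ) : Bool :=
  ((List.range (p ^ n)).all fun c => Nat.beq c 0 || rs.any fun r => Nat.beq (rt T c) r) &&
    rs.all fun r => Nat.ble B (cnt p n T r)

theorem card_le (hx : ∀ a b, x (a + b) = x a * x b) (ρ : Representation ℂ G W) (l : List ℕ) (hl : l.Nodup)
    (hlt : ∀ c ∈ l, c < p ^ n) {m : ℕ} (hm : ∀ c ∈ l, m ≤ mul x ρ c) : m * l.length ≤ finrank ℂ W := by
  classical
  have h1 := mul_card_le (isAct_of ρ hx) (l.toFinset.image fun c => lam (dig p n c)) m (by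
    intro χ hχ
    obtain ⟨c, hc, rfl⟩ := Finset.mem_image.1 hχ
    exact hm c (List.mem_toFinset.1 hc))
  rw [Finset.card_image_of_injOn, List.toFinset_card_of_nodup hl] at h1
  · exact h1
  · intro c hc c' hc' h
    exact dig_inj (hlt c (List.mem_toFinset.1 hc)) (hlt c' (List.mem_toFinset.1 hc')) (lam_injective h)

/-- **The degree bound.** -/
theorem le_finrank [IsSimpleGroup G] (hx : ∀ a b, x (a + b) = x a * x b) (hi : Function.Injective x)
    (ρ : Representation ℂ G W) (hρ : ∃ g, ρ g ≠ 1) (hn : 0 < n)
    {Ms : List (List (List ℕ))} (hM : ∀ j < Ms.length, ∃ g : G, Nrm x g (mat p n (Ms.getD j []))) {T : List Ent}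
    (hT : treeOK p n Ms T = true) {B : ℕ} {rs : List ℕ} (hB : rootsOK p n B T rs = true) : B ≤ finrank ℂ W := by
  have h1 : x (Pi.single ⟨0, hn⟩ 1) ≠ 1 := by
    rw [← x_zero hx]
    intro h
    have h2 := congrFun (hi h) ⟨0, hn⟩
    rw [Pi.single_eq_same] at h2
    exact one_ne_zero h2
  obtain ⟨χ, hχ, hχ1⟩ := exists_wt (isAct_of ρ hx) (a := Pi.single ⟨0, hn⟩ 1) (faithful ρ hρ h1)
  obtain ⟨w, rfl⟩ := exists_lam χ
  obtain ⟨c, hc, rfl⟩ := dig_surj w
  have hc0 : c ≠ 0 := by
    rintro rfl
    apply hχ1
    have h2 : dig p n 0 = 0 := by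
      funext i
      simp [dig, dg]
    rw [h2, lam_zero]
    rfl
  have hpos : 1 ≤ mul x ρ c := by
    rw [Nat.one_le_iff_ne_zero]
    intro h
    exact hχ (Submodule.finrank_eq_zero.1 h)
  rw [rootsOK, Bool.and_eq_true] at hB
  have h3 := List.all_eq_true.1 hB.1 c (List.mem_range.2 hc)
  rw [Bool.or_eq_true, List.any_eq_true] at h3
  rcases h3 with h3 | ⟨r, hr, h3⟩
  · exact absurd (Nat.eq_of_beq_eq_true h3) hc0
  have h4 := Nat.le_of_ble_eq_true (List.all_eq_true.1 hB.2 r hr)
  have h5 := Nat.eq_of_beq_eq_true h3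
  have h6 := card_le hx ρ ((List.range (p ^ n)).filter fun c => Nat.beq (rt T c) r) (List.nodup_range.filter _)
    (fun c' hc' => List.mem_range.1 (List.mem_filter.1 hc').1) (m := 1) (by
      intro c' hc'
      obtain ⟨h7, h8⟩ := List.mem_filter.1 hc'
      rw [const hx hi ρ hM hT (List.mem_range.1 h7), Nat.eq_of_beq_eq_true h8, ← h5, ← const hx hi ρ hM hT hc]
      exact hpos)
  rw [one_mul] at h6
  exact h4.trans h6

end Cfsg.Agent.H133.Ore.Orb
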